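import Mathlib
import Cfsg.Agent.Lib.Helper51.Zass.Defs
import Cfsg.Agent.S0033

/-!
# Project ZASS (S0690), package [LIN]

A nontrivial group `G` of fixed-point-free automorphisms of a finite group `K` acts
fixed-point-freely on a nontrivial elementary abelian `p`-group: `K` is nilpotent (Thompson,
`Cfsg.Agent.S0033.result`, applied to an element of prime order of `G`), so a Sylow `p`-subgroup `P`
of `K` is characteristic, and `G` acts on the central elements of `P` of order dividing `p`.
(The hypothesis that `G` is perfect is not used.)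
-/

set_option autoImplicit false

namespace Cfsg.Agent.Lib.Helper34.Zass

open Cfsg.Agent.Lib.Helper51.Zass

universe u

/-- the central elements of `P` of order dividing `p`. -/
def omegaCenter {K : Type u} [Group K] (P : Subgroup K) (p : ℕ) : Subgroup K where
  carrier := {k | k ∈ P ∧ (∀ x ∈ P, x * k = k * x) ∧ k ^ p = 1}
  one_mem' := ⟨P.one_mem, fun x _ => by simp, one_pow p⟩
  mul_mem' := by
    rintro a b ⟨haP, hac, hap⟩ ⟨hbP, hbc, hbp⟩
    refine ⟨P.mul_mem haP hbP, fun x hx => ?_, ?_⟩
    · rw [← mul_assoc, hac x hx, mul_assoc, hbc x hx, mul_assoc]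
    · have hcomm : Commute a b := hbc a haP
      rw [hcomm.mul_pow, hap, hbp, one_mul]
  inv_mem' := by
    rintro a ⟨haP, hac, hap⟩
    refine ⟨P.inv_mem haP, fun x hx => ?_, by rw [inv_pow, hap, inv_one]⟩
    have h := hac x hx
    calc x * a⁻¹ = a⁻¹ * (a * x) * a⁻¹ := by group
      _ = a⁻¹ * (x * a) * a⁻¹ := by rw [h]
      _ = a⁻¹ * x := by group

theorem mem_omegaCenter {K : Type u} [Group K] {P : Subgroup K} {p : ℕ} {k : K} :
    k ∈ omegaCenter P p ↔ k ∈ P ∧ (∀ x ∈ P, x * k = k * x) ∧ k ^ p = 1 := Iff.rfl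

/-- the action of an automorphism group on an invariant subgroup. -/
def actOn {K : Type u} [Group K] (G : Subgroup (MulAut K)) (W : Subgroup K)
    (hW : ∀ α ∈ G, ∀ k ∈ W, α k ∈ W) (g : G) : W →* W where
  toFun v := ⟨(g : MulAut K) v.1, hW g.1 g.2 v.1 v.2⟩
  map_one' := Subtype.ext (map_one (g : MulAut K))
  map_mul' a b := Subtype.ext (map_mul (g : MulAut K) a.1 b.1)

theorem actOn_coe {K : Type u} [Group K] (G : Subgroup (MulAut K)) (W : Subgroup K)
    (hW : ∀ α ∈ G, ∀ k ∈ W, α k ∈ W) (g : G) (v : W) :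
    ((actOn G W hW g v : W) : K) = (g : MulAut K) (v : K) := rfl

/-- commutative group structure on a commutative subgroup. -/
@[reducible] def commGroupOfComm {K : Type u} [Group K] (W : Subgroup K)
    (hcomm : ∀ a ∈ W, ∀ b ∈ W, a * b = b * a) : CommGroup W :=
  { (inferInstance : Group W) with mul_comm := fun a b => Subtype.ext (hcomm a a.2 b b.2) }

/-- a fixed-point-free action on a nontrivial finite `ZMod p`-module gives `IsFpfLin`. -/
theorem isFpfLin_of_module {G : Type u} [Group G] {V : Type u} [AddCommGroup V] [Finite V]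
    [Nontrivial V] (p : ℕ) [Fact p.Prime] [Module (ZMod p) V] (act : G → V →+ V)
    (h1 : ∀ v, act 1 v = v) (hmul : ∀ g h v, act (g * h) v = act g (act h v))
    (hfpf : ∀ g : G, g ≠ 1 → ∀ v : V, act g v = v → v = 0) : IsFpfLin G :=
  ⟨p, inferInstance, V, inferInstance, inferInstance, inferInstance, inferInstance,
    { toFun := fun g => AddMonoidHom.toZModLinearMap p (act g)
      map_one' := LinearMap.ext h1
      map_mul' := fun g h => LinearMap.ext (hmul g h) }, fun g hg v hv => hfpf g hg v hv⟩

/-- a fixed-point-free action on a nontrivial finite commutative group of exponent `p` gives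
`IsFpfLin`. -/
theorem isFpfLin_of_commGroup {G : Type u} [Group G] {W : Type u} [CommGroup W] [Finite W]
    [Nontrivial W] (p : ℕ) [Fact p.Prime] (hpow : ∀ a : W, a ^ p = 1) (act : G → W →* W)
    (h1 : ∀ w, act 1 w = w) (hmul : ∀ g h w, act (g * h) w = act g (act h w))
    (hfpf : ∀ g : G, g ≠ 1 → ∀ w : W, act g w = w → w = 1) : IsFpfLin G :=
  @isFpfLin_of_module G _ (Additive W) _ _ _ p _
    (AddCommGroup.zmodModule (fun v => by
      apply Additive.toMul.injective
      rw [toMul_nsmul, toMul_zero]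
      exact hpow _))
    (fun g => MonoidHom.toAdditive (act g))
    (fun v => by
      apply Additive.toMul.injective
      exact h1 _)
    (fun g h v => by
      apply Additive.toMul.injective
      exact hmul g h _)
    (fun g hg v hv => by
      apply Additive.toMul.injective
      exact hfpf g hg _ (congrArg Additive.toMul hv))

/-- a group of fixed-point-free automorphisms acting on a nontrivial invariant commutative subgroup
of exponent `p`. -/
theorem isFpfLin_of_invariant {K : Type u} [Group K] [Finite K] (G : Subgroup (MulAut K))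
    (hfpf : ∀ φ ∈ G, φ ≠ 1 → ∀ k : K, φ k = k → k = 1)
    (p : ℕ) [Fact p.Prime] (W : Subgroup K) (hW : ∀ α ∈ G, ∀ k ∈ W, α k ∈ W)
    (hcomm : ∀ a ∈ W, ∀ b ∈ W, a * b = b * a) (hpow : ∀ a ∈ W, a ^ p = 1) (hne : W ≠ ⊥) :
    IsFpfLin G :=
  @isFpfLin_of_commGroup G _ W (commGroupOfComm W hcomm) _
    ((Subgroup.nontrivial_iff_ne_bot W).mpr hne) p _
    (fun a => Subtype.ext (hpow a a.2)) (actOn G W hW)
    (fun w => Subtype.ext (by rw [actOn_coe, Subgroup.coe_one, MulAut.one_apply]))
    (fun g h w => Subtype.ext (by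
      rw [actOn_coe, actOn_coe, actOn_coe, Subgroup.coe_mul, MulAut.mul_apply]))
    (fun g hg w hw => Subtype.ext (by
      have h1 : (g : MulAut K) (w : K) = (w : K) := by
        rw [← actOn_coe G W hW g w, hw]
      exact hfpf g.1 g.2 (fun h => hg (Subtype.ext h)) _ h1))

/-- [LIN] -/
theorem pkgLin : PkgLin.{u} := by
  intro K _ _ G hfpf _hperf hne
  classical
  -- a nontrivial element
  obtain ⟨φ, hφG, hφ1⟩ : ∃ φ ∈ G, φ ≠ 1 := by
    by_contra h
    exact hne ((Subgroup.eq_bot_iff_forall G).mpr
      (fun x hx => by_contra (fun hx1 => h ⟨x, hx, hx1⟩)))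
  -- an element of prime order
  have hord1 : orderOf φ ≠ 1 := fun h => hφ1 (orderOf_eq_one_iff.mp h)
  obtain ⟨r, hr, hrdvd⟩ := Nat.exists_prime_and_dvd hord1
  have hψord : orderOf (φ ^ (orderOf φ / r)) = r :=
    orderOf_pow_orderOf_div (orderOf_pos φ).ne' hrdvd
  have hψG : φ ^ (orderOf φ / r) ∈ G := G.pow_mem hφG _
  have hψ1 : φ ^ (orderOf φ / r) ≠ 1 := by
    intro h
    rw [h, orderOf_one] at hψord
    exact hr.one_lt.ne hψord
  have hψfpf : MonoidHom.FixedPointFree
      (((φ ^ (orderOf φ / r) : MulAut K) : K ≃* K) : K →* K) :=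
    fun k hk => hfpf _ hψG hψ1 k hk
  have hnil : Group.IsNilpotent K :=
    Cfsg.Agent.S0033.result (φ ^ (orderOf φ / r) : MulAut K) hψfpf r hr hψord
  -- `K` is nontrivial
  have hKnt : Nontrivial K := by
    by_contra h
    rw [not_nontrivial_iff_subsingleton] at h
    apply hφ1
    ext k
    exact Subsingleton.elim _ _
  obtain ⟨p, hp, hpK⟩ := Nat.exists_prime_and_dvd (Finite.one_lt_card (α := K)).ne'
  have : Fact p.Prime := ⟨hp⟩
  obtain ⟨P⟩ : Nonempty (Sylow p K) := inferInstance
  have hPn : (P : Subgroup K).Normal := by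
    have h := (Group.isNilpotent_of_finite_tfae (G := K)).out 0 3
    exact h.mp hnil p inferInstance P
  have hPchar : (P : Subgroup K).Characteristic := Sylow.characteristic_of_normal P hPn
  have hmem : ∀ α : K ≃* K, ∀ k ∈ (P : Subgroup K), α k ∈ (P : Subgroup K) :=
    fun α k hk => (Subgroup.characteristic_iff_le_comap.mp hPchar α) hk
  -- invariance of `Ω₁(Z(P))`
  have hinv : ∀ α ∈ G, ∀ k ∈ omegaCenter (P : Subgroup K) p,
      α k ∈ omegaCenter (P : Subgroup K) p := by
    rintro α - k ⟨hkP, hkc, hkp⟩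
    refine ⟨hmem α k hkP, fun x hx => ?_, by rw [← map_pow, hkp, map_one]⟩
    have hx' : α.symm x ∈ (P : Subgroup K) := hmem α.symm x hx
    have h := congrArg α (hkc _ hx')
    simpa using h
  -- nontriviality
  have hPne : (P : Subgroup K) ≠ ⊥ := P.ne_bot_of_dvd_card hpK
  have hPnt : Nontrivial (P : Subgroup K) := (Subgroup.nontrivial_iff_ne_bot _).mpr hPne
  have hZnt : Nontrivial (Subgroup.center (P : Subgroup K)) := P.isPGroup'.center_nontrivial
  have hZp : IsPGroup p (Subgroup.center (P : Subgroup K)) := P.isPGroup'.to_subgroup _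
  have hZdvd : p ∣ Nat.card (Subgroup.center (P : Subgroup K)) := by
    rcases hZp.card_eq_or_dvd with h | h
    · exact absurd h (Finite.one_lt_card).ne'
    · exact h
  obtain ⟨z, hz⟩ := exists_prime_orderOf_dvd_card' p hZdvd
  have hzmem : ((z : (P : Subgroup K)) : K) ∈ omegaCenter (P : Subgroup K) p := by
    refine ⟨(z : (P : Subgroup K)).2, fun x hx => ?_, ?_⟩
    · have h := Subgroup.mem_center_iff.mp z.2 ⟨x, hx⟩
      exact congrArg Subtype.val h
    · have h : z ^ p = 1 := by
        have h0 := pow_orderOf_eq_one z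
        rwa [hz] at h0
      have h2 := congrArg
        (fun w : Subgroup.center (P : Subgroup K) => ((w : (P : Subgroup K)) : K)) h
      simpa using h2
  have hz1 : ((z : (P : Subgroup K)) : K) ≠ 1 := by
    intro h
    have hz' : z = 1 := Subtype.ext (Subtype.ext h)
    rw [hz', orderOf_one] at hz
    exact hp.one_lt.ne hz
  have hWne : omegaCenter (P : Subgroup K) p ≠ ⊥ := by
    intro h
    rw [h, Subgroup.mem_bot] at hzmem
    exact hz1 hzmem
  exact isFpfLin_of_invariant G hfpf p (omegaCenter (P : Subgroup K) p) hinv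
    (fun a ha b hb => hb.2.1 a ha.1) (fun a ha => ha.2.2) hWne

end Cfsg.Agent.Lib.Helper34.Zass
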